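import Mathlib
import Cfsg.Agent.Lib.Fi22O7.Rep

/-!
# The stabiliser chain of the linear action of `⟨b, …, i⟩`
-/

set_option autoImplicit false
set_option maxRecDepth 100000
set_option linter.all false
set_option Elab.async false

namespace Cfsg.Agent.Lib.Fi22O7

open Cfsg.Spor Cfsg.Agent.Lib.TcFacts Cfsg.Agent.Lib.TcBits Cfsg.Agent.Lib.TcPres Cfsg.Agent.Lib.PresChain36
open Cfsg.Agent.TcChain36.Fi22.Y232

/-- A word of the free group. -/
noncomputable def W (l : List (Gen × Bool)) : FreeGroup Gen := FreeGroup.mk l

/-- The words of level 0. -/
noncomputable def rs0 : List (FreeGroup Gen) := [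
  W [(.b, true)],
  W [(.c, true)],
  W [(.d, true)],
  W [(.e, true)],
  W [(.f, true)],
  W [(.g, true)],
  W [(.h, true)]]

/-- The mask of level 0. -/
def M0 : ℕ := nat_lit 0x6208c31230c71031c4118e00ec083b0270c09c01c00db1276c490012401b623620623123623103123038e181c0838e070c083b6c00249276c00001276c31188c71188c41188c46c0e070270381c01c0e0712492490000001b6db6d88c31c46208c3118e208c0ec09c0e00ec0e04e00edb1240000db1249200db0c48d882362063881891b020e38038e181386041c49db0036c002480093b6c46231031188c48c46231c0e070c0e07020e070380000001249249db6db6c31c41186388230c71046c09c01d813803b02700712401b6248036c49006db1031236206246c40c48c70c0838e181071c3020e001276c0024ed80049db1188c46231188c46231181c0e070381c0e070381db6db6db6db6db6db6db6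

theorem fix0 : ∀ r ∈ rs0, ∀ b ∈ ([] : List ℕ), wordApply (sgnProg pr) r.toWord (2 ^ b) = 2 ^ b := by simp

theorem M0_eq : grow pr (rs0.map FreeGroup.toWord) 6 (2 ^ 1) = M0 := by decide +kernel

theorem M0_lt : M0 < 2 ^ 2 ^ 12 := by decide +kernel

theorem M0_cnt : sumRange M0.testBit 12 0 = 756 := by decide +kernel

theorem L0 : 756 * Nat.card (ptStab Phi ([1] : List ℕ)) ≤ Nat.card (ptStab Phi ([] : List ℕ)) :=
  card_step (M0_eq ▸ sound_ptStab hR hv rs0 fix0 6 1) M0_lt M0_cnt

/-- The words of level 1. -/
noncomputable def rs1 : List (FreeGroup Gen) := [
  W [(.e, true), (.h, true), (.g, true), (.h, true), (.e, true), (.c, true), (.i, true), (.d, true), (.c, true), (.f, true), (.h, true), (.f, true), (.g, true), (.f, true), (.h, true), (.d, true), (.f, true), (.e, true), (.b, true), (.c, true), (.b, true), (.g, true), (.h, true), (.c, true), (.g, true), (.b, true), (.h, true), (.e, true), (.h, true), (.e, true), (.h, true), (.i, true), (.g, true), (.f, true), (.h, true), (.b, true), (.e, true), (.h, true), (.d, true), (.b, true), (.f, true), (.h, true), (.c, true), (.d, true), (.b, true), (.g, true), (.d, true), (.b, true), (.i, true), (.b, true),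 (.g, true), (.d, true), (.c, true), (.e, true), (.f, true), (.b, true), (.c, true), (.i, true), (.h, true), (.g, true), (.c, true), (.d, true), (.f, true), (.i, true), (.b, true), (.i, true), (.h, true), (.f, true), (.g, true), (.c, true), (.e, true), (.h, true), (.b, true), (.g, true), (.c, true), (.b, true), (.g, true), (.f, true), (.i, true), (.f, true), (.i, true), (.h, true), (.c, true), (.b, true), (.f, true), (.i, true), (.b, true), (.c, true), (.f, true), (.e, true), (.d, true), (.h, true), (.b, true), (.h, true), (.c, true), (.g, true), (.i, true), (.b, true), (.f, true), (.e, true), (.f, true), (.g, true), (.i, true), (.g, true), (.d, true), (.b, true), (.c, true), (.d, true), (.h, true), (.d, true), (.b, true), (.c, true), (.f, true), (.h, true), (.f, true), (.i, true), (.d, true), (.b, true), (.c, true), (.h, true), (.e, true), (.d, true), (.i, true), (.c, true), (.i, true), (.e, true), (.f, true), (.h, true), (.i, true), (.g, true), (.e, true), (.c, true), (.h, true), (.d, true), (.i, true), (.b, true), (.d, true), (.g, true), (.h, true), (.g, true), (.h, true), (.f, true), (.d, true), (.b, true), (.g, true), (.h, true), (.b, true), (.f,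 true), (.g, true), (.i, true), (.h, true), (.i, true), (.c, true), (.h, true), (.f, true), (.b, true), (.g, true), (.h, true), (.e, true), (.b, true), (.h, true), (.b, true), (.c, true), (.d, true), (.i, true), (.f, true), (.d, true), (.c, true), (.h, true), (.i, true), (.d, true), (.g, true), (.c, true), (.d, true), (.e, true), (.g, true), (.b, true), (.g, true), (.c, true), (.d, true), (.i, true), (.b, true), (.i, true), (.c, true), (.g, true), (.f, true), (.c, true), (.e, true), (.c, true), (.d, true), (.f, true), (.h, true), (.i, true), (.e, true), (.d, true), (.f, true)],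
  W [(.c, true), (.g, true), (.f, true), (.e, true), (.c, true), (.i, true), (.e, true), (.f, true), (.e, true), (.c, true), (.b, true), (.f, true), (.d, true), (.b, true), (.f, true), (.h, true), (.f, true), (.c, true), (.f, true), (.g, true), (.h, true), (.c, true), (.d, true), (.e, true), (.h, true), (.e, true), (.d, true), (.g, true), (.h, true), (.g, true), (.b, true), (.e, true), (.c, true), (.f, true), (.i, true), (.b, true), (.c, true), (.i, true), (.b, true), (.e, true), (.b, true), (.f, true), (.g, true), (.i, true), (.d, true), (.c, true), (.e, true), (.b, true), (.c, true), (.b, true), (.g, true), (.i, true), (.g, true), (.i, true), (.c, true), (.f, true), (.h, true), (.b, true), (.h, true), (.d, true), (.f, true), (.c, true), (.f, true), (.d, true), (.f, true), (.i, true), (.f, true), (.g, true), (.h, true), (.c, true), (.d, true), (.i, true), (.h, true), (.e, true), (.g, true), (.c, true), (.d, true), (.b, true), (.h, true), (.i, true), (.h, true), (.f, true), (.d, true), (.f, true), (.g, true), (.b, true), (.h, true), (.d, true), (.b, true), (.e, true), (.b, true), (.f, true), (.i, true), (.h, true), (.c, true), (.h, true), (.c, true),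 (.b, true), (.g, true), (.h, true), (.c, true), (.d, true), (.f, true), (.i, true), (.e, true), (.b, true), (.h, true), (.i, true), (.f, true), (.i, true), (.d, true), (.i, true), (.e, true), (.i, true), (.h, true), (.f, true), (.b, true), (.f, true), (.c, true), (.h, true), (.b, true), (.d, true), (.i, true), (.b, true), (.g, true), (.d, true), (.i, true), (.e, true), (.d, true), (.g, true), (.c, true), (.e, true), (.g, true), (.i, true), (.c, true), (.h, true), (.c, true), (.f, true), (.e, true), (.h, true), (.g, true), (.f, true), (.e, true), (.d, true), (.i, true), (.c, true), (.g, true), (.f, true), (.d, true), (.b, true), (.i, true), (.b, true), (.h, true), (.g, true), (.c, true), (.b, true), (.f, true), (.i, true), (.f, true), (.i, true), (.b, true), (.g, true), (.h, true), (.d, true), (.f, true), (.e, true), (.f, true), (.b, true), (.f, true), (.d, true), (.f, true), (.h, true), (.e, true), (.f, true), (.e, true), (.i, true), (.e, true), (.f, true), (.d, true), (.h, true), (.c, true), (.g, true), (.c, true), (.d, true), (.b, true), (.i, true), (.c, true), (.i, true), (.d, true), (.g, true), (.d, true), (.c, true), (.i, true), (.g, true), (.e,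 true), (.c, true)]]

/-- The mask of level 1. -/
def M1 : ℕ := nat_lit 0x1000208008208008200041001200048008200200200248009200000000049009001008009008008008041040200041008200049200000009200000009208040208040200040201201008008040200201008000000000000049249240208201000208041000201200201001201001001248000000248000000248200240009001040040048001040041040041000200248009200000000049201008008040200201008201008201008001008040000000000000249249208200041040008208001200200240040048008008000049000009200001248008009001001200200208200041040008208001000009200001240000248040201008040201008040201008040201008040249249249249249249248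

theorem fix1 : ∀ r ∈ rs1, ∀ b ∈ ([1] : List ℕ), wordApply (sgnProg pr) r.toWord (2 ^ b) = 2 ^ b := by decide +kernel

theorem M1_eq : grow pr (rs1.map FreeGroup.toWord) 8 (2 ^ 3) = M1 := by decide +kernel

theorem M1_lt : M1 < 2 ^ 2 ^ 12 := by decide +kernel

theorem M1_cnt : sumRange M1.testBit 12 0 = 260 := by decide +kernel

theorem L1 : 260 * Nat.card (ptStab Phi ([3, 1] : List ℕ)) ≤ Nat.card (ptStab Phi ([1] : List ℕ)) :=
  card_step (M1_eq ▸ sound_ptStab hR hv rs1 fix1 8 3) M1_lt M1_cnt

/-- The words of level 2. -/
noncomputable def rs2 : List (FreeGroup Gen) := [
  W [(.e, true), (.i, true), (.f, true), (.d, true), (.f, true), (.h, true), (.e, true), (.g, true), (.f, true), (.d, true), (.e, true), (.i, true), (.f, true), (.d, true), (.e, true), (.f, true), (.d, true), (.h, true), (.b, true), (.e, true), (.f, true), (.b, true), (.f, true), (.h, true), (.g, true), (.e, true), (.b, true), (.i, true), (.e, true), (.c, true), (.g, true), (.c, true), (.g, true), (.d, true), (.e, true), (.c, true), (.d, true), (.c, true), (.f, true), (.h, true), (.i, true), (.b, true), (.i, true), (.g, true), (.e, true), (.b, true), (.d, true), (.h, true), (.b, true),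 (.i, true), (.g, true), (.e, true), (.g, true), (.h, true), (.e, true), (.b, true), (.h, true), (.b, true), (.g, true), (.c, true), (.e, true), (.b, true), (.h, true), (.d, true), (.i, true), (.e, true), (.c, true), (.f, true), (.g, true), (.h, true), (.g, true), (.h, true), (.f, true), (.g, true), (.h, true), (.i, true), (.c, true), (.g, true), (.h, true), (.f, true), (.h, true), (.g, true), (.f, true), (.b, true), (.c, true), (.b, true), (.g, true), (.d, true), (.g, true), (.d, true), (.h, true), (.d, true), (.f, true), (.d, true), (.f, true), (.i, true), (.g, true), (.e, true), (.f, true), (.c, true), (.h, true), (.f, true), (.h, true), (.i, true), (.e, true), (.f, true), (.c, true), (.d, true), (.g, true), (.f, true), (.b, true), (.f, true), (.h, true), (.e, true), (.b, true), (.e, true), (.i, true), (.d, true), (.h, true), (.g, true), (.c, true), (.i, true), (.b, true), (.c, true), (.g, true), (.d, true), (.c, true), (.i, true), (.d, true), (.i, true), (.f, true), (.g, true), (.i, true), (.f, true), (.h, true), (.d, true), (.b, true), (.e, true), (.d, true), (.f, true), (.b, true), (.d, true), (.e, true), (.d, true), (.e, true), (.i, true), (.b,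 true), (.e, true), (.d, true), (.f, true), (.e, true), (.i, true), (.e, true), (.c, true), (.h, true), (.f, true), (.b, true), (.i, true), (.g, true), (.c, true), (.f, true), (.h, true), (.d, true), (.c, true), (.b, true), (.f, true), (.g, true), (.c, true), (.i, true), (.h, true), (.f, true), (.h, true), (.b, true), (.i, true), (.c, true), (.f, true), (.d, true), (.h, true), (.d, true), (.g, true), (.d, true), (.g, true), (.h, true), (.b, true), (.d, true), (.h, true), (.i, true), (.e, true), (.g, true), (.d, true), (.g, true), (.e, true), (.i, true), (.d, true)],
  W [(.c, true), (.d, true), (.i, true), (.d, true), (.c, true), (.b, true), (.d, true), (.h, true), (.d, true), (.i, true), (.h, true), (.d, true), (.e, true), (.b, true), (.h, true), (.d, true), (.f, true), (.d, true), (.h, true), (.f, true), (.g, true), (.b, true), (.i, true), (.b, true), (.g, true), (.h, true), (.b, true), (.i, true), (.g, true), (.i, true), (.c, true), (.h, true), (.c, true), (.i, true), (.d, true), (.i, true), (.b, true), (.h, true), (.d, true), (.f, true), (.g, true), (.d, true), (.h, true), (.g, true), (.i, true), (.c, true), (.h, true), (.e, true), (.c, true), (.f,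 true), (.c, true), (.i, true), (.g, true), (.d, true), (.c, true), (.i, true), (.f, true), (.g, true), (.d, true), (.f, true), (.h, true), (.d, true), (.b, true), (.c, true), (.f, true), (.e, true), (.h, true), (.d, true), (.b, true), (.d, true), (.c, true), (.f, true), (.g, true), (.i, true), (.b, true), (.i, true), (.b, true), (.f, true), (.g, true), (.i, true), (.d, true), (.e, true), (.d, true), (.e, true), (.i, true), (.h, true), (.b, true), (.c, true), (.d, true), (.f, true), (.h, true), (.i, true), (.e, true), (.c, true), (.d, true), (.i, true), (.e, true), (.f, true), (.b, true), (.e, true), (.f, true), (.e, true), (.g, true), (.d, true), (.f, true), (.c, true), (.b, true), (.c, true), (.g, true), (.f, true), (.b, true), (.e, true), (.i, true), (.c, true), (.d, true), (.g, true), (.f, true), (.e, true), (.c, true), (.d, true), (.i, true), (.g, true), (.d, true), (.f, true), (.c, true), (.b, true), (.i, true), (.d, true), (.b, true), (.d, true), (.c, true), (.h, true), (.i, true), (.h, true), (.d, true), (.f, true), (.d, true), (.g, true), (.f, true), (.c, true), (.d, true), (.e, true), (.h, true), (.i, true), (.f, true), (.e, true), (.d, true),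 (.e, true), (.b, true), (.i, true), (.f, true), (.i, true), (.b, true), (.h, true), (.d, true), (.h, true), (.b, true), (.i, true), (.d, true), (.f, true), (.d, true), (.g, true), (.b, true), (.c, true), (.g, true), (.e, true), (.i, true), (.e, true), (.d, true), (.f, true), (.c, true), (.i, true), (.g, true), (.h, true), (.f, true), (.e, true), (.i, true), (.e, true), (.c, true), (.i, true), (.g, true), (.c, true), (.e, true), (.d, true), (.i, true), (.f, true), (.c, true), (.g, true), (.i, true), (.h, true), (.b, true), (.f, true), (.b, true), (.c, true), (.i, true), (.h, true)],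
  W [(.d, true), (.g, true), (.c, true), (.f, true), (.c, true), (.f, true), (.e, true), (.d, true), (.g, true), (.b, true), (.g, true), (.c, true), (.d, true), (.i, true), (.f, true), (.g, true), (.h, true), (.c, true), (.i, true), (.c, true), (.d, true), (.i, true), (.f, true), (.d, true), (.h, true), (.f, true), (.d, true), (.h, true), (.i, true), (.c, true), (.g, true), (.f, true), (.b, true), (.e, true), (.d, true), (.c, true), (.e, true), (.f, true), (.b, true), (.d, true), (.e, true), (.b, true), (.h, true), (.d, true), (.b, true), (.i, true), (.d, true), (.c, true), (.b, true), (.h, true), (.i, true), (.g, true), (.b, true), (.h, true), (.c, true), (.e, true), (.i, true), (.c, true), (.f, true), (.i, true), (.h, true), (.c, true), (.i, true), (.e, true), (.f, true), (.g, true), (.f, true), (.d, true), (.f, true), (.b, true), (.d, true), (.b, true), (.f, true), (.e, true), (.c, true), (.d, true), (.e, true), (.i, true), (.h, true), (.i, true), (.d, true), (.f, true), (.b, true), (.d, true), (.f, true), (.d, true), (.h, true), (.i, true), (.c, true), (.h, true), (.c, true), (.d, true), (.e, true), (.g, true), (.e, true), (.c, true), (.d, true),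 (.f, true), (.b, true), (.f, true), (.d, true), (.f, true), (.d, true), (.h, true), (.e, true), (.b, true), (.i, true), (.h, true), (.d, true), (.i, true), (.b, true), (.f, true), (.g, true), (.e, true), (.b, true), (.e, true), (.d, true), (.e, true), (.b, true), (.g, true), (.i, true), (.h, true), (.b, true), (.g, true), (.e, true), (.c, true), (.h, true), (.f, true), (.i, true), (.d, true), (.f, true), (.h, true), (.g, true), (.f, true), (.h, true), (.c, true), (.e, true), (.i, true), (.d, true), (.g, true), (.d, true), (.b, true), (.e, true), (.f, true), (.i, true), (.b, true), (.f, true), (.g, true), (.h, true), (.d, true), (.i, true), (.d, true), (.i, true), (.g, true), (.c, true), (.g, true), (.b, true), (.d, true), (.b, true), (.h, true), (.e, true), (.i, true), (.c, true), (.g, true), (.h, true), (.c, true), (.e, true), (.f, true), (.d, true), (.h, true), (.c, true), (.d, true), (.b, true), (.i, true), (.h, true), (.d, true), (.i, true), (.h, true), (.i, true), (.c, true), (.b, true), (.g, true), (.d, true), (.f, true), (.e, true), (.i, true), (.f, true), (.i, true), (.c, true), (.f, true), (.g, true), (.h, true), (.d, true), (.i, true), (.d,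 true), (.e, true)],
  W [(.d, true), (.f, true), (.b, true), (.g, true), (.f, true), (.b, true), (.h, true), (.e, true), (.g, true), (.h, true), (.f, true), (.h, true), (.i, true), (.f, true), (.g, true), (.c, true), (.g, true), (.i, true), (.d, true), (.i, true), (.b, true), (.d, true), (.c, true), (.h, true), (.i, true), (.c, true), (.h, true), (.i, true), (.d, true), (.b, true), (.e, true), (.c, true), (.b, true), (.g, true), (.d, true), (.b, true), (.e, true), (.d, true), (.c, true), (.g, true), (.e, true), (.f, true), (.d, true), (.e, true), (.h, true), (.c, true), (.h, true), (.f, true), (.g, true), (.i, true), (.h, true), (.b, true), (.f, true), (.i, true), (.e, true), (.i, true), (.c, true), (.e, true), (.h, true), (.g, true), (.b, true), (.d, true), (.e, true), (.g, true), (.c, true), (.b, true), (.c, true), (.b, true), (.d, true), (.g, true), (.b, true), (.c, true), (.e, true), (.i, true), (.g, true), (.f, true), (.b, true), (.d, true), (.b, true), (.c, true), (.h, true), (.b, true), (.e, true), (.h, true), (.i, true), (.h, true), (.g, true), (.c, true), (.i, true), (.b, true), (.h, true), (.i, true), (.g, true), (.f, true), (.g, true), (.d,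 true), (.c, true), (.d, true), (.c, true), (.g, true), (.c, true), (.f, true), (.d, true), (.c, true), (.g, true), (.d, true), (.i, true), (.h, true), (.g, true), (.b, true), (.e, true), (.c, true), (.b, true), (.h, true), (.e, true), (.c, true), (.i, true), (.f, true), (.g, true), (.c, true), (.e, true), (.h, true), (.c, true), (.d, true), (.b, true), (.e, true), (.h, true), (.e, true), (.d, true), (.b, true), (.d, true), (.f, true), (.c, true), (.b, true), (.f, true), (.g, true), (.i, true), (.e, true), (.g, true), (.c, true), (.b, true), (.c, true), (.g, true), (.c, true), (.g, true), (.b, true), (.i, true), (.e, true), (.c, true), (.h, true), (.f, true), (.c, true), (.d, true), (.b, true), (.i, true), (.d, true), (.h, true), (.e, true), (.h, true), (.d, true), (.b, true), (.d, true), (.f, true), (.e, true), (.c, true), (.d, true), (.h, true), (.g, true), (.b, true), (.e, true), (.b, true), (.h, true), (.d, true), (.g, true), (.d, true), (.g, true), (.b, true), (.f, true), (.g, true), (.h, true), (.g, true), (.f, true), (.i, true), (.f, true), (.g, true), (.c, true), (.e, true), (.h, true), (.c, true), (.e, true), (.i, true), (.c, true), (.e, true),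 (.c, true), (.f, true), (.i, true), (.g, true), (.i, true)]]

/-- The mask of level 2. -/
def M2 : ℕ := nat_lit 0x248009200000000049000000000000000000000000000000000000000009200000009200000009200000000000000000000000000000000000000000000000000000049249240000000000000000000000000000000000000000248000000248000000248000000000000000000000000000000000000000000248009200000000049000000000000000000000000000000000000000000000000000000249249200000000000000000000000000000000000000000000049000009200001240000000000000000000000000000000000000000000009200001240000248000000000000000000000000000000000000000049249249249249249200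

theorem fix2 : ∀ r ∈ rs2, ∀ b ∈ ([3, 1] : List ℕ), wordApply (sgnProg pr) r.toWord (2 ^ b) = 2 ^ b := by decide +kernel

theorem M2_eq : grow pr (rs2.map FreeGroup.toWord) 3 (2 ^ 9) = M2 := by decide +kernel

theorem M2_lt : M2 < 2 ^ 2 ^ 12 := by decide +kernel

theorem M2_cnt : sumRange M2.testBit 12 0 = 96 := by decide +kernel

theorem L2 : 96 * Nat.card (ptStab Phi ([9, 3, 1] : List ℕ)) ≤ Nat.card (ptStab Phi ([3, 1] : List ℕ)) :=
  card_step (M2_eq ▸ sound_ptStab hR hv rs2 fix2 3 9) M2_lt M2_cnt

/-- The words of level 3. -/
noncomputable def rs3 : List (FreeGroup Gen) := [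
  W [(.f, true), (.i, true), (.g, true), (.b, true), (.c, true), (.e, true), (.h, true), (.b, true), (.h, true), (.d, true), (.g, true), (.h, true), (.g, true), (.h, true), (.f, true), (.d, true), (.h, true), (.d, true), (.c, true), (.g, true), (.h, true), (.f, true), (.i, true), (.b, true), (.d, true), (.c, true), (.b, true), (.f, true), (.g, true), (.h, true), (.f, true), (.i, true), (.e, true), (.d, true), (.c, true), (.g, true), (.f, true), (.b, true), (.i, true), (.g, true), (.i, true), (.h, true), (.c, true), (.d, true), (.e, true), (.g, true), (.c, true), (.d, true), (.e, true), (.h, true), (.g, true), (.h, true), (.c, true), (.h, true), (.i, true), (.c, true), (.d, true), (.f, true), (.i, true), (.b, true), (.c, true), (.i, true), (.c, true), (.d, true), (.i, true), (.h, true), (.f, true), (.h, true), (.f, true), (.h, true), (.f, true), (.g, true), (.i, true), (.h, true), (.i, true), (.b, true), (.c, true), (.d, true), (.g, true), (.c, true), (.b, true), (.h, true), (.c, true), (.f, true), (.d, true), (.e, true), (.d, true), (.e, true), (.d, true), (.b, true), (.i, true), (.e, true), (.h, true), (.b, true), (.f, true), (.b, true), (.h, true),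 (.i, true), (.d, true), (.b, true), (.d, true), (.f, true), (.d, true), (.e, true), (.d, true), (.f, true), (.d, true), (.c, true), (.f, true), (.i, true), (.e, true), (.h, true), (.b, true), (.c, true), (.e, true), (.f, true), (.h, true), (.f, true), (.c, true), (.d, true), (.f, true), (.e, true), (.b, true), (.d, true), (.e, true), (.c, true), (.d, true), (.g, true), (.i, true), (.e, true), (.f, true), (.e, true), (.f, true), (.b, true), (.g, true), (.f, true), (.g, true), (.e, true), (.c, true), (.d, true), (.g, true), (.e, true), (.b, true), (.g, true), (.h, true), (.b, true), (.e, true), (.i, true), (.h, true), (.i, true), (.c, true), (.d, true), (.b, true), (.e, true), (.g, true), (.i, true), (.h, true), (.d, true), (.c, true), (.h, true), (.e, true), (.d, true), (.f, true), (.b, true), (.h, true), (.c, true), (.h, true), (.f, true), (.h, true), (.b, true), (.g, true), (.d, true), (.b, true), (.e, true), (.f, true), (.i, true), (.g, true), (.f, true), (.g, true), (.f, true), (.b, true), (.h, true), (.e, true), (.g, true), (.b, true), (.h, true), (.d, true), (.c, true), (.e, true), (.c, true), (.b, true), (.g, true), (.h, true), (.d, true), (.e,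 true), (.f, true)],
  W [(.h, true), (.f, true), (.i, true), (.e, true), (.i, true), (.g, true), (.b, true), (.i, true), (.e, true), (.h, true), (.e, true), (.g, true), (.c, true), (.e, true), (.h, true), (.d, true), (.f, true), (.e, true), (.g, true), (.b, true), (.d, true), (.h, true), (.c, true), (.f, true), (.e, true), (.g, true), (.e, true), (.d, true), (.e, true), (.i, true), (.h, true), (.i, true), (.g, true), (.c, true), (.h, true), (.e, true), (.f, true), (.c, true), (.b, true), (.f, true), (.i, true), (.e, true), (.g, true), (.h, true), (.d, true), (.g, true), (.b, true), (.g, true), (.c, true), (.i, true), (.b, true), (.i, true), (.b, true), (.h, true), (.g, true), (.f, true), (.g, true), (.b, true), (.f, true), (.g, true), (.f, true), (.h, true), (.c, true), (.d, true), (.i, true), (.b, true), (.h, true), (.i, true), (.f, true), (.d, true), (.f, true), (.d, true), (.c, true), (.b, true), (.e, true), (.h, true), (.f, true), (.c, true), (.d, true), (.f, true), (.e, true), (.c, true), (.i, true), (.f, true), (.d, true), (.c, true), (.e, true), (.b, true), (.i, true), (.b, true), (.e, true), (.g, true), (.h, true), (.i, true), (.e, true), (.b,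 true), (.i, true), (.d, true), (.e, true), (.i, true), (.b, true), (.h, true), (.c, true), (.i, true), (.f, true), (.d, true), (.h, true), (.g, true), (.i, true), (.g, true), (.i, true), (.h, true), (.g, true), (.i, true), (.h, true), (.f, true), (.i, true), (.b, true), (.f, true), (.g, true), (.h, true), (.f, true), (.e, true), (.f, true), (.g, true), (.e, true), (.b, true), (.c, true), (.d, true), (.e, true), (.h, true), (.g, true), (.f, true), (.h, true), (.e, true), (.g, true), (.e, true), (.f, true), (.h, true), (.i, true), (.h, true), (.e, true), (.c, true), (.b, true), (.f, true), (.d, true), (.b, true), (.i, true), (.d, true), (.h, true), (.i, true), (.e, true), (.d, true), (.f, true), (.h, true), (.b, true), (.f, true), (.i, true), (.g, true), (.b, true), (.i, true), (.d, true), (.e, true), (.d, true), (.g, true), (.h, true), (.d, true), (.c, true), (.f, true), (.e, true), (.c, true), (.g, true), (.e, true), (.i, true), (.e, true), (.b, true), (.e, true), (.h, true), (.g, true), (.f, true), (.b, true), (.e, true), (.g, true), (.d, true), (.h, true), (.d, true), (.f, true), (.b, true), (.c, true), (.h, true), (.f, true), (.b, true), (.f, true),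 (.b, true), (.f, true), (.i, true)],
  W [(.g, true), (.e, true), (.d, true), (.b, true), (.f, true), (.e, true), (.d, true), (.b, true), (.c, true), (.i, true), (.d, true), (.g, true), (.c, true), (.d, true), (.g, true), (.h, true), (.e, true), (.b, true), (.e, true), (.c, true), (.e, true), (.f, true), (.e, true), (.f, true), (.b, true), (.h, true), (.c, true), (.d, true), (.i, true), (.e, true), (.c, true), (.e, true), (.c, true), (.d, true), (.i, true), (.c, true), (.e, true), (.d, true), (.g, true), (.h, true), (.g, true), (.i, true), (.f, true), (.d, true), (.f, true), (.b, true), (.c, true), (.g, true), (.h, true), (.c, true), (.h, true), (.b, true), (.h, true), (.i, true), (.g, true), (.f, true), (.c, true), (.f, true), (.c, true), (.e, true), (.d, true), (.e, true), (.g, true), (.b, true), (.i, true), (.e, true), (.i, true), (.d, true), (.f, true), (.h, true), (.e, true), (.f, true), (.g, true), (.e, true), (.i, true), (.c, true), (.f, true), (.h, true), (.e, true), (.d, true), (.c, true), (.g, true), (.h, true), (.f, true), (.i, true), (.b, true), (.f, true), (.e, true), (.b, true), (.f, true), (.c, true), (.f, true), (.d, true), (.g, true),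 (.e, true), (.i, true), (.h, true), (.f, true), (.b, true), (.g, true), (.b, true), (.e, true), (.b, true), (.d, true), (.i, true), (.h, true), (.i, true), (.c, true), (.g, true), (.i, true), (.g, true), (.c, true), (.g, true), (.c, true), (.e, true), (.i, true), (.f, true), (.d, true), (.c, true), (.g, true), (.b, true), (.g, true), (.e, true), (.d, true), (.f, true), (.c, true), (.h, true), (.f, true), (.e, true), (.f, true), (.c, true), (.f, true), (.c, true), (.d, true), (.i, true), (.c, true), (.f, true), (.g, true), (.f, true), (.c, true), (.e, true), (.g, true), (.e, true), (.g, true), (.d, true), (.f, true), (.d, true), (.g, true), (.h, true), (.i, true), (.e, true), (.g, true), (.f, true), (.c, true), (.i, true), (.b, true), (.c, true), (.i, true), (.f, true), (.b, true), (.c, true), (.h, true), (.g, true), (.i, true), (.h, true), (.f, true), (.d, true), (.c, true), (.d, true), (.i, true), (.g, true), (.h, true), (.e, true), (.c, true), (.i, true), (.f, true), (.i, true), (.f, true), (.h, true), (.f, true), (.i, true), (.c, true), (.e, true), (.g, true), (.c, true), (.f, true), (.g, true), (.f, true), (.h, true), (.i, true), (.f, true), (.i,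 true), (.g, true), (.f, true), (.h, true), (.b, true)]]

/-- The mask of level 3. -/
def M3 : ℕ := nat_lit 0x201008008040200201008000000000000000000000000000000000000000000000000000000000000000000000000000000000000000000000000000000000000000000000000000000000000000000000000000000000000000000201008201008001008040000000000000000000000000000000000000000000000000000000000000000000000000000000000000000000000000000000000000000000000000000000000000000000000000000000000000000000201008040201008040200000000000000000000

theorem fix3 : ∀ r ∈ rs3, ∀ b ∈ ([9, 3, 1] : List ℕ), wordApply (sgnProg pr) r.toWord (2 ^ b) = 2 ^ b := by decide +kernel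

theorem M3_eq : grow pr (rs3.map FreeGroup.toWord) 3 (2 ^ 81) = M3 := by decide +kernel

theorem M3_lt : M3 < 2 ^ 2 ^ 12 := by decide +kernel

theorem M3_cnt : sumRange M3.testBit 12 0 = 27 := by decide +kernel

theorem L3 : 27 * Nat.card (ptStab Phi ([81, 9, 3, 1] : List ℕ)) ≤ Nat.card (ptStab Phi ([9, 3, 1] : List ℕ)) :=
  card_step (M3_eq ▸ sound_ptStab hR hv rs3 fix3 3 81) M3_lt M3_cnt

/-- The words of level 4. -/
noncomputable def rs4 : List (FreeGroup Gen) := [
  W [(.e, true), (.c, true), (.i, true), (.h, true), (.g, true), (.c, true), (.h, true), (.c, true), (.h, true), (.f, true), (.d, true), (.b, true), (.c, true), (.g, true), (.f, true), (.g, true), (.h, true), (.g, true), (.h, true), (.b, true), (.f, true), (.d, true), (.f, true), (.g, true), (.d, true), (.c, true), (.e, true), (.f, true), (.e, true), (.d, true), (.c, true), (.d, true), (.i, true), (.b, true), (.e, true), (.d, true), (.e, true), (.h, true), (.g, true), (.f, true), (.b, true), (.g, true), (.b, true), (.c, true), (.h, true), (.e, true), (.g, true), (.d, true), (.i, true), (.c, true), (.g, true), (.e, true), (.b, true), (.c, true), (.i, true), (.c, true), (.g, true), (.b,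 true), (.d, true), (.i, true), (.f, true), (.i, true), (.d, true), (.f, true), (.i, true), (.e, true), (.c, true), (.e, true), (.g, true), (.b, true), (.h, true), (.d, true), (.c, true), (.h, true), (.e, true), (.f, true), (.h, true), (.d, true), (.c, true), (.b, true), (.e, true), (.c, true), (.d, true), (.c, true), (.g, true), (.b, true), (.h, true), (.d, true), (.e, true), (.g, true), (.f, true), (.b, true), (.c, true), (.h, true), (.i, true), (.g, true), (.f, true), (.c, true), (.i, true), (.c, true), (.e, true), (.c, true), (.h, true), (.g, true), (.c, true), (.e, true), (.d, true), (.i, true), (.f, true), (.i, true), (.f, true), (.c, true), (.g, true), (.b, true), (.d, true), (.f, true), (.i, true), (.c, true), (.h, true), (.d, true), (.f, true), (.e, true), (.c, true), (.b, true), (.f, true), (.c, true), (.f, true), (.c, true), (.h, true), (.d, true), (.c, true), (.i, true), (.c, true), (.d, true), (.i, true), (.c, true), (.d, true), (.i, true), (.e, true), (.b, true), (.i, true), (.c, true), (.f, true), (.h, true), (.g, true), (.d, true), (.f, true), (.h, true), (.d, true), (.c, true), (.h, true), (.i, true), (.b, true), (.g, true), (.b, true),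 (.d, true), (.f, true), (.e, true), (.h, true), (.i, true), (.h, true), (.g, true), (.c, true), (.h, true), (.g, true), (.c, true), (.e, true), (.f, true), (.g, true), (.c, true), (.i, true), (.d, true), (.f, true), (.h, true), (.g, true), (.d, true), (.f, true), (.e, true), (.d, true), (.b, true), (.h, true), (.c, true), (.f, true), (.b, true), (.e, true), (.i, true), (.c, true), (.b, true), (.c, true), (.i, true), (.c, true), (.h, true), (.i, true), (.c, true), (.b, true), (.d, true)],
  W [(.d, true), (.h, true), (.c, true), (.h, true), (.b, true), (.h, true), (.b, true), (.h, true), (.e, true), (.b, true), (.g, true), (.f, true), (.i, true), (.d, true), (.c, true), (.f, true), (.b, true), (.d, true), (.g, true), (.b, true), (.d, true), (.i, true), (.d, true), (.i, true), (.f, true), (.e, true), (.d, true), (.e, true), (.h, true), (.c, true), (.e, true), (.b, true), (.i, true), (.c, true), (.f, true), (.b, true), (.e, true), (.c, true), (.e, true), (.g, true), (.h, true), (.d, true), (.i, true), (.e, true), (.c, true), (.b, true), (.e, true), (.h, true), (.e, true), (.b, true), (.g, true), (.b, true), (.i, true), (.f, true), (.e, true), (.b, true),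 (.h, true), (.e, true), (.i, true), (.h, true), (.g, true), (.i, true), (.h, true), (.f, true), (.b, true), (.d, true), (.c, true), (.b, true), (.g, true), (.i, true), (.e, true), (.f, true), (.i, true), (.g, true), (.c, true), (.f, true), (.g, true), (.e, true), (.h, true), (.i, true), (.g, true), (.b, true), (.i, true), (.e, true), (.f, true), (.g, true), (.f, true), (.e, true), (.g, true), (.b, true), (.f, true), (.e, true), (.h, true), (.f, true), (.e, true), (.d, true), (.f, true), (.h, true), (.g, true), (.i, true), (.f, true), (.h, true), (.g, true), (.b, true), (.c, true), (.d, true), (.i, true), (.f, true), (.e, true), (.d, true), (.i, true), (.f, true), (.d, true), (.f, true), (.c, true), (.i, true), (.b, true), (.e, true), (.g, true), (.c, true), (.e, true), (.d, true), (.f, true), (.c, true), (.e, true), (.b, true), (.e, true), (.b, true), (.e, true), (.b, true), (.c, true), (.g, true), (.c, true), (.i, true), (.c, true), (.f, true), (.d, true), (.b, true), (.c, true), (.f, true), (.h, true), (.e, true), (.d, true), (.f, true), (.i, true), (.e, true), (.g, true), (.d, true), (.c, true), (.g, true), (.f, true), (.d, true), (.e, true), (.i,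 true), (.e, true), (.c, true), (.h, true), (.i, true), (.e, true), (.g, true), (.f, true), (.h, true), (.b, true), (.i, true), (.b, true), (.c, true), (.h, true), (.c, true), (.i, true), (.c, true), (.f, true), (.h, true), (.i, true), (.f, true), (.b, true), (.i, true), (.e, true), (.i, true), (.b, true), (.i, true), (.c, true), (.f, true), (.c, true), (.h, true), (.e, true), (.i, true), (.g, true), (.d, true), (.g, true), (.b, true), (.h, true), (.e, true), (.g, true), (.i, true), (.e, true), (.c, true), (.h, true), (.g, true)]]

/-- The mask of level 4. -/
def M4 : ℕ := nat_lit 0x200000000200000000200000000000000000000000000000000000000000000000000000000000000000000000000000000000000000000000000000000000000000000000000000000000000000000000000000000000000000000008000200000000001000000000000000000000000000000000000000000000000000000000000000000000000000000000000000000000000000000000000000000000000000000000000000000000000000000000000000000000000200000040000008000000000000000000000000000000000000000000000000000000000000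

theorem fix4 : ∀ r ∈ rs4, ∀ b ∈ ([81, 9, 3, 1] : List ℕ), wordApply (sgnProg pr) r.toWord (2 ^ b) = 2 ^ b := by decide +kernel

theorem M4_eq : grow pr (rs4.map FreeGroup.toWord) 2 (2 ^ 243) = M4 := by decide +kernel

theorem M4_lt : M4 < 2 ^ 2 ^ 12 := by decide +kernel

theorem M4_cnt : sumRange M4.testBit 12 0 = 9 := by decide +kernel

theorem L4 : 9 * Nat.card (ptStab Phi ([243, 81, 9, 3, 1] : List ℕ)) ≤ Nat.card (ptStab Phi ([81, 9, 3, 1] : List ℕ)) :=
  card_step (M4_eq ▸ sound_ptStab hR hv rs4 fix4 2 243) M4_lt M4_cnt

theorem C5 : 1 * Nat.card (ptStab Phi ([243, 81, 9, 3, 1] : List ℕ)) ≤ Nat.card (ptStab Phi ([243, 81, 9, 3, 1] : List ℕ)) := by simp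

theorem C4 : (9 * 1) * Nat.card (ptStab Phi ([243, 81, 9, 3, 1] : List ℕ)) ≤ Nat.card (ptStab Phi ([81, 9, 3, 1] : List ℕ)) :=
  lower_step L4 C5

theorem C3 : (27 * (9 * 1)) * Nat.card (ptStab Phi ([243, 81, 9, 3, 1] : List ℕ)) ≤ Nat.card (ptStab Phi ([9, 3, 1] : List ℕ)) :=
  lower_step L3 C4

theorem C2 : (96 * (27 * (9 * 1))) * Nat.card (ptStab Phi ([243, 81, 9, 3, 1] : List ℕ)) ≤ Nat.card (ptStab Phi ([3, 1] : List ℕ)) :=
  lower_step L2 C3

theorem C1 : (260 * (96 * (27 * (9 * 1)))) * Nat.card (ptStab Phi ([243, 81, 9, 3, 1] : List ℕ)) ≤ Nat.card (ptStab Phi ([1] : List ℕ)) :=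
  lower_step L1 C2

theorem C0 : (756 * (260 * (96 * (27 * (9 * 1))))) * Nat.card (ptStab Phi ([243, 81, 9, 3, 1] : List ℕ)) ≤ Nat.card (ptStab Phi ([] : List ℕ)) :=
  lower_step L0 C1

theorem top_eq : ptStab Phi ([] : List ℕ) = ⊤ := ptStab_nil Phi

/-- The base. -/
def baseL : List ℕ := [243, 81, 9, 3, 1]

/-- The order of the group, and the faithfulness on the base. -/
theorem card_spec : Nat.card (PresentedGroup RR) = 4585351680 ∧ ∀ g ∈ ptStab Phi baseL, g = 1 := by
  have h := C0
  rw [top_eq] at h
  exact eq_of_lower (by norm_num) (h.trans' (Nat.mul_le_mul_right _ (by norm_num))) upper.1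

end Cfsg.Agent.Lib.Fi22O7
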